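import Mathlib

/-!
# Corners `eAe` of an algebra: basic structure, rank lemmas, ranges of idempotent endomorphisms
-/

set_option autoImplicit false
open scoped TensorProduct

namespace Groth.Agent.Helper6.AzCorner

universe u v

section Corner

variable {R : Type u} [CommRing R] {A : Type v} [Ring A] [Algebra R A]
variable {e : A} (he : IsIdempotentElem e)

include he in
lemma he_mul (x : A) : e * (e * x) = e * x := by rw [← mul_assoc, he.eq]

/-- constructor of corner elements -/
def mkCor (x : A) (h1 : e * x = x) (h2 : x * e = x) : he.Corner :=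
  ⟨x, (Subsemigroup.mem_corner_iff he).mpr ⟨h1, h2⟩⟩

@[simp] lemma mkCor_val (x : A) (h1 : e * x = x) (h2 : x * e = x) : (mkCor he x h1 h2).1 = x := rfl

@[simp] lemma val_mul (x y : he.Corner) : (x * y).1 = x.1 * y.1 := rfl
@[simp] lemma val_add (x y : he.Corner) : (x + y).1 = x.1 + y.1 := rfl
@[simp] lemma val_zero : (0 : he.Corner).1 = 0 := rfl
@[simp] lemma val_one : (1 : he.Corner).1 = e := rfl

lemma cl (x : he.Corner) : e * x.1 = x.1 := ((Subsemigroup.mem_corner_iff he).mp x.2).1
lemma cr (x : he.Corner) : x.1 * e = x.1 := ((Subsemigroup.mem_corner_iff he).mp x.2).2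
lemma cl' (x : he.Corner) (y : A) : e * (x.1 * y) = x.1 * y := by rw [← mul_assoc, cl he]
lemma cr' (x : he.Corner) (y : A) : x.1 * (e * y) = x.1 * y := by rw [← mul_assoc, cr he]

/-- the structure map `R → eAe`, `r ↦ r • e` -/
def cornerMap : R →+* he.Corner where
  toFun r := mkCor he (r • e) (by rw [mul_smul_comm, he.eq]) (by rw [smul_mul_assoc, he.eq])
  map_one' := Subtype.ext (one_smul R e)
  map_mul' r s := Subtype.ext (by
    show (r * s) • e = (r • e) * (s • e)
    rw [smul_mul_smul_comm, he.eq])
  map_zero' := Subtype.ext (zero_smul R e)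
  map_add' r s := Subtype.ext (add_smul r s e)

instance instAlgebra : Algebra R he.Corner :=
  (cornerMap (R := R) he).toAlgebra' (fun r x => Subtype.ext (by
    show (r • e) * x.1 = x.1 * (r • e)
    rw [smul_mul_assoc, mul_smul_comm, cl he, cr he]))

lemma val_smul (r : R) (x : he.Corner) : (r • x).1 = r • x.1 := by
  rw [Algebra.smul_def]
  show (r • e) * x.1 = r • x.1
  rw [smul_mul_assoc, cl he]

lemma algebraMap_val (r : R) : (algebraMap R he.Corner r).1 = r • e := rfl

/-- inclusion `eAe → A` -/
def ι : he.Corner →ₗ[R] A where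
  toFun x := x.1
  map_add' _ _ := rfl
  map_smul' r x := val_smul he r x

@[simp] lemma ι_apply (x : he.Corner) : ι (R := R) he x = x.1 := rfl

/-- projection `A → eAe`, `a ↦ e a e` -/
def π : A →ₗ[R] he.Corner where
  toFun a := mkCor he (e * a * e) (by rw [← mul_assoc, ← mul_assoc, he.eq]) (by rw [mul_assoc, he.eq])
  map_add' a b := Subtype.ext (by
    show e * (a + b) * e = e * a * e + e * b * e
    rw [mul_add, add_mul])
  map_smul' r a := Subtype.ext (by
    rw [RingHom.id_apply, val_smul]
    show e * (r • a) * e = r • (e * a * e)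
    rw [mul_smul_comm, smul_mul_assoc])

@[simp] lemma π_val (a : A) : (π (R := R) he a).1 = e * a * e := rfl

lemma π_ι (x : he.Corner) : π (R := R) he (ι (R := R) he x) = x :=
  Subtype.ext (by
    show e * x.1 * e = x.1
    rw [cl he, cr he])

lemma π_comp_ι : (π (R := R) he) ∘ₗ (ι (R := R) he) = LinearMap.id :=
  LinearMap.ext fun x => π_ι he x

lemma π_surjective : Function.Surjective (π (R := R) he) := fun x => ⟨x.1, π_ι he x⟩

/-- inclusion on opposites -/
def ιop : he.Cornerᵐᵒᵖ →ₗ[R] Aᵐᵒᵖ :=
  (MulOpposite.opLinearEquiv R).toLinearMap ∘ₗ (ι (R := R) he) ∘ₗ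
    (MulOpposite.opLinearEquiv R).symm.toLinearMap

@[simp] lemma ιop_apply (y : he.Cornerᵐᵒᵖ) : ιop (R := R) he y = MulOpposite.op y.unop.1 := rfl

/-- projection on opposites -/
def πop : Aᵐᵒᵖ →ₗ[R] he.Cornerᵐᵒᵖ :=
  (MulOpposite.opLinearEquiv R).toLinearMap ∘ₗ (π (R := R) he) ∘ₗ
    (MulOpposite.opLinearEquiv R).symm.toLinearMap

@[simp] lemma πop_apply (b : Aᵐᵒᵖ) : πop (R := R) he b = MulOpposite.op (π (R := R) he b.unop) := rfl

lemma πop_ιop (y : he.Cornerᵐᵒᵖ) : πop (R := R) he (ιop (R := R) he y) = y := by
  rw [πop_apply, ιop_apply]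
  show MulOpposite.op (π (R := R) he (ι (R := R) he y.unop)) = y
  rw [π_ι]; rfl

end Corner

section Rank

variable {R : Type u} [CommRing R]

/-- a nonzero finite projective module over a ring with connected spectrum has positive rank
everywhere -/
lemma rank_pos [PreconnectedSpace (PrimeSpectrum R)] (M : Type v) [AddCommGroup M] [Module R M]
    [Module.Finite R M] [Module.Projective R M] [Nontrivial M] (p : PrimeSpectrum R) :
    0 < Module.rankAtStalk M p := by
  haveI : Module.FinitePresentation R M := Module.finitePresentation_of_projective R M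
  rcases Nat.eq_zero_or_pos (Module.rankAtStalk M p) with h0 | h
  · exfalso
    have hall : Module.rankAtStalk (R := R) M = 0 := by
      funext q
      rw [IsLocallyConstant.apply_eq_of_preconnectedSpace
        (Module.isLocallyConstant_rankAtStalk (R := R) (M := M)) q p, h0]
      rfl
    have hs := Module.rankAtStalk_eq_zero_iff_subsingleton.mp hall
    exact not_subsingleton M hs
  · exact h

/-- if a finite projective module has positive rank everywhere, it is faithful -/
lemma eq_zero_of_smul_eq_zero (M : Type v) [AddCommGroup M] [Module R M]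
    [Module.Finite R M] [Module.Projective R M]
    (hpos : ∀ p : PrimeSpectrum R, 0 < Module.rankAtStalk M p) (t : R)
    (ht : ∀ m : M, t • m = 0) : t = 0 := by
  by_contra hne
  obtain ⟨I, hIdef⟩ : ∃ I : Ideal R, I = LinearMap.ker (LinearMap.toSpanSingleton R R t) := ⟨_, rfl⟩
  have hmemI : ∀ s : R, s ∈ I ↔ s * t = 0 := by
    intro s
    rw [hIdef, LinearMap.mem_ker, LinearMap.toSpanSingleton_apply, smul_eq_mul]
  have hI : I ≠ ⊤ := by
    intro h
    have h1 : (1 : R) ∈ I := by rw [h]; exact Submodule.mem_top
    rw [hmemI, one_mul] at h1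
    exact hne h1
  obtain ⟨m, hm, hIm⟩ := Ideal.exists_le_maximal I hI
  obtain ⟨p, hp⟩ : ∃ p : PrimeSpectrum R, p.asIdeal = m := ⟨⟨m, hm.isPrime⟩, rfl⟩
  have hle : I ≤ p.asIdeal := by rw [hp]; exact hIm
  have hsupp := hpos p
  rw [Module.rankAtStalk_pos_iff_mem_support, Module.mem_support_iff] at hsupp
  haveI : Nontrivial (LocalizedModule p.asIdeal.primeCompl M) := hsupp
  haveI : Module.Free (Localization.AtPrime p.asIdeal) (LocalizedModule p.asIdeal.primeCompl M) :=
    Module.free_of_flat_of_isLocalRing
  obtain ⟨b, hb⟩ : ∃ b, b = Module.Free.chooseBasis (Localization.AtPrime p.asIdeal)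
      (LocalizedModule p.asIdeal.primeCompl M) := ⟨_, rfl⟩
  obtain ⟨i⟩ : Nonempty (Module.Free.ChooseBasisIndex (Localization.AtPrime p.asIdeal)
      (LocalizedModule p.asIdeal.primeCompl M)) := b.index_nonempty
  have hkill : ∀ x : LocalizedModule p.asIdeal.primeCompl M, t • x = 0 := by
    intro x
    refine LocalizedModule.induction_on (fun m s => ?_) x
    rw [LocalizedModule.smul'_mk, ht, LocalizedModule.zero_mk]
  have h1 : (algebraMap R (Localization.AtPrime p.asIdeal) t) • b i = 0 := by
    rw [algebraMap_smul]; exact hkill _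
  have h2 : algebraMap R (Localization.AtPrime p.asIdeal) t = 0 := by
    have h3 := congrArg b.repr h1
    rw [map_smul, b.repr_self, map_zero] at h3
    have h4 := DFunLike.congr_fun h3 i
    rw [Algebra.algebraMap_eq_smul_one]
    simpa using h4
  rw [IsLocalization.map_eq_zero_iff p.asIdeal.primeCompl] at h2
  obtain ⟨s, hs⟩ := h2
  have hsI : (s : R) ∈ I := (hmemI _).mpr hs
  exact s.2 (hle hsI)

end Rank

section IdemRange

variable {R : Type u} [CommRing R] {M : Type v} [AddCommGroup M] [Module R M]

lemma proj_range [Module.Projective R M] (q : Module.End R M) (hq : q * q = q) :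
    Module.Projective R (LinearMap.range q) := by
  refine Module.Projective.of_split (LinearMap.range q).subtype q.rangeRestrict ?_
  apply LinearMap.ext
  rintro ⟨x, a, rfl⟩
  apply Subtype.ext
  show q (q a) = q a
  rw [← Module.End.mul_apply, hq]

/-- for orthogonal idempotent endomorphisms, `range (p + q) ≃ range p × range q` -/
noncomputable def rangeAddEquiv (p q : Module.End R M) (hp : p * p = p) (hq : q * q = q)
    (hpq : p * q = 0) (hqp : q * p = 0) :
    LinearMap.range (p + q) ≃ₗ[R] LinearMap.range p × LinearMap.range q := by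
  have hp' : ∀ a, p (p a) = p a := fun a => by rw [← Module.End.mul_apply, hp]
  have hq' : ∀ a, q (q a) = q a := fun a => by rw [← Module.End.mul_apply, hq]
  have hpq' : ∀ a, p (q a) = 0 := fun a => by
    rw [← Module.End.mul_apply, hpq, LinearMap.zero_apply]
  have hqp' : ∀ a, q (p a) = 0 := fun a => by
    rw [← Module.End.mul_apply, hqp, LinearMap.zero_apply]
  refine LinearEquiv.ofBijective
    (LinearMap.prod (p.rangeRestrict ∘ₗ (LinearMap.range (p + q)).subtype)
      (q.rangeRestrict ∘ₗ (LinearMap.range (p + q)).subtype)) ⟨?_, ?_⟩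
  · rw [injective_iff_map_eq_zero]
    rintro ⟨x, a, rfl⟩ hx
    have h1 : p ((p + q) a) = 0 := congrArg (fun z => (z.1 : M)) hx
    have h2 : q ((p + q) a) = 0 := congrArg (fun z => (z.2 : M)) hx
    apply Subtype.ext
    show (p + q) a = 0
    rw [LinearMap.add_apply, map_add, hp', hpq', add_zero] at h1
    rw [LinearMap.add_apply, map_add, hqp', hq', zero_add] at h2
    rw [LinearMap.add_apply, h1, h2, add_zero]
  · rintro ⟨⟨u, a, rfl⟩, ⟨k, b, rfl⟩⟩
    refine ⟨⟨(p + q) (p a + q b), LinearMap.mem_range_self _ _⟩, ?_⟩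
    apply Prod.ext
    · apply Subtype.ext
      show p ((p + q) (p a + q b)) = p a
      simp only [LinearMap.add_apply, map_add, hp', hq', hpq', hqp', add_zero, zero_add]
    · apply Subtype.ext
      show q ((p + q) (p a + q b)) = q b
      simp only [LinearMap.add_apply, map_add, hp', hq', hpq', hqp', add_zero, zero_add]

lemma rank_range_add [Module.Finite R M] [Module.Projective R M] (p q r : Module.End R M)
    (hp : p * p = p) (hq : q * q = q) (hpq : p * q = 0) (hqp : q * p = 0) (hr : p + q = r)
    (x : PrimeSpectrum R) :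
    Module.rankAtStalk (LinearMap.range r) x =
      Module.rankAtStalk (LinearMap.range p) x + Module.rankAtStalk (LinearMap.range q) x := by
  subst hr
  haveI := proj_range p hp
  haveI := proj_range q hq
  have h1 := congrFun (Module.rankAtStalk_eq_of_equiv (rangeAddEquiv p q hp hq hpq hqp)) x
  rw [h1, Module.rankAtStalk_prod]
  rfl

end IdemRange

end Groth.Agent.Helper6.AzCorner
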