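import Mathlib
import Groth.Agent.Lib.Helper6.AzCorner.Basic

/-!
# The corner `eAe` of an Azumaya algebra over a connected base is Azumaya (`e ≠ 0`)
-/

set_option autoImplicit false
open scoped TensorProduct

namespace Groth.Agent.Helper6.AzCorner

universe u v

variable {R : Type u} [CommRing R] {A : Type v} [Ring A] [Algebra R A]
variable {e : A} (he : IsIdempotentElem e)

lemma K1 (z : he.Corner ⊗[R] he.Cornerᵐᵒᵖ) (a : A) :
    AlgHom.mulLeftRight R A (TensorProduct.map (ι (R := R) he) (ιop (R := R) he) z) a
      = (AlgHom.mulLeftRight R he.Corner z (π (R := R) he a)).1 := by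
  induction z using TensorProduct.induction_on with
  | zero => simp only [map_zero, LinearMap.zero_apply, val_zero]
  | tmul x y =>
    rw [TensorProduct.map_tmul, AlgHom.mulLeftRight_apply, AlgHom.mulLeftRight_apply]
    show x.1 * a * y.unop.1 = x.1 * (e * a * e) * y.unop.1
    simp only [mul_assoc, cl he, cr' he]
  | add z w hz hw => simp only [map_add, LinearMap.add_apply, hz, hw, val_add]

lemma K2 (w : A ⊗[R] Aᵐᵒᵖ) (x : he.Corner) :
    AlgHom.mulLeftRight R he.Corner (TensorProduct.map (π (R := R) he) (πop (R := R) he) w) x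
      = π (R := R) he (AlgHom.mulLeftRight R A w x.1) := by
  induction w using TensorProduct.induction_on with
  | zero => simp only [map_zero, LinearMap.zero_apply]
  | tmul a b =>
    rw [TensorProduct.map_tmul, AlgHom.mulLeftRight_apply, AlgHom.mulLeftRight_apply]
    apply Subtype.ext
    show (e * a * e) * x.1 * (e * b.unop * e) = e * (a * x.1 * b.unop) * e
    simp only [mul_assoc, cl he, cl' he, cr he, cr' he]
  | add w₁ w₂ h₁ h₂ => simp only [map_add, LinearMap.add_apply, h₁, h₂]

lemma q_j (z : he.Corner ⊗[R] he.Cornerᵐᵒᵖ) :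
    TensorProduct.map (π (R := R) he) (πop (R := R) he)
      (TensorProduct.map (ι (R := R) he) (ιop (R := R) he) z) = z := by
  induction z using TensorProduct.induction_on with
  | zero => simp only [map_zero]
  | tmul x y => rw [TensorProduct.map_tmul, TensorProduct.map_tmul, π_ι, πop_ιop]
  | add z w hz hw => rw [map_add, map_add, hz, hw]

theorem corner_bij [IsAzumaya R A] : Function.Bijective (AlgHom.mulLeftRight R he.Corner) := by
  constructor
  · rw [injective_iff_map_eq_zero]
    intro z hz
    have h1 : AlgHom.mulLeftRight R A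
        (TensorProduct.map (ι (R := R) he) (ιop (R := R) he) z) = 0 := by
      apply LinearMap.ext
      intro a
      rw [K1, hz]
      rfl
    have h2 : TensorProduct.map (ι (R := R) he) (ιop (R := R) he) z = 0 := by
      apply (IsAzumaya.bij (R := R) (A := A)).1
      rw [h1, map_zero]
    rw [← q_j he z, h2, map_zero]
  · intro φ
    obtain ⟨w, hw⟩ := (IsAzumaya.bij (R := R) (A := A)).2
      ((ι (R := R) he) ∘ₗ φ ∘ₗ (π (R := R) he))
    refine ⟨TensorProduct.map (π (R := R) he) (πop (R := R) he) w, ?_⟩
    apply LinearMap.ext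
    intro x
    rw [K2, hw]
    show π (R := R) he (ι (R := R) he (φ (π (R := R) he (ι (R := R) he x)))) = φ x
    rw [π_ι, π_ι]

theorem corner_isAzumaya [PreconnectedSpace (PrimeSpectrum R)] [IsAzumaya R A] (hne : e ≠ 0) :
    IsAzumaya R he.Corner := by
  haveI hfin : Module.Finite R he.Corner :=
    Module.Finite.of_surjective (π (R := R) he) (π_surjective he)
  haveI hproj : Module.Projective R he.Corner :=
    Module.Projective.of_split (ι (R := R) he) (π (R := R) he) (π_comp_ι he)
  haveI hnt : Nontrivial he.Corner := ⟨⟨1, 0, fun h => hne (congrArg Subtype.val h)⟩⟩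
  haveI hfaith : FaithfulSMul R he.Corner := ⟨fun {r s} h => by
    have h0 := eq_zero_of_smul_eq_zero he.Corner (fun p => rank_pos he.Corner p) (r - s)
      (fun m => by rw [sub_smul, h m, sub_self])
    exact sub_eq_zero.mp h0⟩
  refine ⟨?_⟩
  exact corner_bij he

end Groth.Agent.Helper6.AzCorner
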