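import Mathlib
import Groth.Agent.Lib.Helper6.AzCorner.Azumaya

/-!
# The Morita-type isomorphism `A ⊗ End_R(eA) ≃ eAe ⊗ End_R(A)` for an Azumaya algebra `A`
-/

set_option autoImplicit false
open scoped TensorProduct

namespace Groth.Agent.Helper6.AzCorner

universe u v

variable (R : Type u) [CommRing R] {A : Type v} [Ring A] [Algebra R A]

/-- the right ideal `eA` as an `R`-submodule -/
abbrev eA (e : A) : Submodule R A := LinearMap.range (LinearMap.mulLeft R e)

/-- projection `A → eA`, `a ↦ e a` -/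
def πP (e : A) : A →ₗ[R] eA R e := (LinearMap.mulLeft R e).rangeRestrict

@[simp] lemma πP_val (e a : A) : (πP R e a).1 = e * a := rfl

variable {R}
variable {e : A} (he : IsIdempotentElem e)

include he in
lemma eA_left (m : eA R e) : e * m.1 = m.1 := by
  obtain ⟨a, ha⟩ := m.2
  rw [← ha]
  show e * (e * a) = e * a
  rw [← mul_assoc, he.eq]

include he in
lemma eA_left' (m : eA R e) (y : A) : e * (m.1 * y) = m.1 * y := by
  rw [← mul_assoc, eA_left he]

include he in
lemma πP_self (m : eA R e) : πP R e m.1 = m := Subtype.ext (eA_left he m)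

include he in
lemma eA_projective [Module.Projective R A] : Module.Projective R (eA R e) := by
  refine Module.Projective.of_split (eA R e).subtype (πP R e) ?_
  apply LinearMap.ext
  intro m
  exact πP_self he m

/-- left multiplication by the corner on `eA` -/
def fL : he.Corner →ₗ[R] Module.End R (eA R e) where
  toFun x := (πP R e) ∘ₗ (LinearMap.mulLeft R x.1) ∘ₗ (eA R e).subtype
  map_add' x y := LinearMap.ext fun m => Subtype.ext (by
    show e * ((x.1 + y.1) * m.1) = e * (x.1 * m.1) + e * (y.1 * m.1)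
    rw [add_mul, mul_add])
  map_smul' r x := LinearMap.ext fun m => Subtype.ext (by
    show e * ((r • x).1 * m.1) = r • (e * (x.1 * m.1))
    rw [val_smul, smul_mul_assoc, mul_smul_comm])

lemma fL_val (x : he.Corner) (m : eA R e) : (fL (R := R) he x m).1 = x.1 * m.1 := by
  show e * (x.1 * m.1) = x.1 * m.1
  rw [cl' he]

/-- right multiplication by `A` on `eA` -/
def gL : Aᵐᵒᵖ →ₗ[R] Module.End R (eA R e) where
  toFun b := (πP R e) ∘ₗ (LinearMap.mulRight R b.unop) ∘ₗ (eA R e).subtype
  map_add' b c := LinearMap.ext fun m => Subtype.ext (by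
    show e * (m.1 * (b.unop + c.unop)) = e * (m.1 * b.unop) + e * (m.1 * c.unop)
    rw [mul_add, mul_add])
  map_smul' r b := LinearMap.ext fun m => Subtype.ext (by
    show e * (m.1 * (r • b.unop)) = r • (e * (m.1 * b.unop))
    rw [mul_smul_comm, mul_smul_comm])

include he in
lemma gL_val (b : Aᵐᵒᵖ) (m : eA R e) : (gL (R := R) (e := e) b m).1 = m.1 * b.unop := by
  show e * (m.1 * b.unop) = m.1 * b.unop
  rw [eA_left' he]

/-- `fL` as an algebra hom -/
def fA : he.Corner →ₐ[R] Module.End R (eA R e) :=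
  AlgHom.ofLinearMap (fL (R := R) he)
    (LinearMap.ext fun m => Subtype.ext (by
      rw [fL_val]
      show e * m.1 = m.1
      rw [eA_left he]))
    (fun x y => LinearMap.ext fun m => Subtype.ext (by
      rw [fL_val, Module.End.mul_apply, fL_val, fL_val]
      show x.1 * y.1 * m.1 = x.1 * (y.1 * m.1)
      rw [mul_assoc]))

/-- `gL` as an algebra hom -/
def gA : Aᵐᵒᵖ →ₐ[R] Module.End R (eA R e) :=
  AlgHom.ofLinearMap (gL (R := R) (e := e))
    (LinearMap.ext fun m => Subtype.ext (by
      rw [gL_val he]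
      show m.1 * 1 = m.1
      rw [mul_one]))
    (fun b c => LinearMap.ext fun m => Subtype.ext (by
      rw [gL_val he, Module.End.mul_apply, gL_val he, gL_val he]
      show m.1 * (c.unop * b.unop) = m.1 * c.unop * b.unop
      rw [mul_assoc]))

lemma fA_val (x : he.Corner) (m : eA R e) : (fA (R := R) he x m).1 = x.1 * m.1 := fL_val he x m
lemma gA_val (b : Aᵐᵒᵖ) (m : eA R e) : (gA (R := R) he b m).1 = m.1 * b.unop := gL_val he b m

lemma comm (x : he.Corner) (b : Aᵐᵒᵖ) : Commute (fA (R := R) he x) (gA (R := R) he b) := by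
  show fA (R := R) he x * gA (R := R) he b = gA (R := R) he b * fA (R := R) he x
  apply LinearMap.ext
  intro m
  apply Subtype.ext
  rw [Module.End.mul_apply, Module.End.mul_apply, fA_val, gA_val, gA_val, fA_val, mul_assoc]

/-- the map `eAe ⊗ Aᵐᵒᵖ → End_R(eA)` -/
def Φ : he.Corner ⊗[R] Aᵐᵒᵖ →ₐ[R] Module.End R (eA R e) :=
  Algebra.TensorProduct.lift (fA (R := R) he) (gA (R := R) he) (comm he)

lemma Φ_tmul_val (x : he.Corner) (b : Aᵐᵒᵖ) (m : eA R e) :
    (Φ (R := R) he (x ⊗ₜ[R] b) m).1 = x.1 * (m.1 * b.unop) := by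
  show ((Algebra.TensorProduct.lift (fA (R := R) he) (gA (R := R) he) (comm he)) (x ⊗ₜ[R] b) m).1 = _
  rw [Algebra.TensorProduct.lift_tmul, Module.End.mul_apply, fA_val, gA_val]

lemma K1' (z : he.Corner ⊗[R] Aᵐᵒᵖ) (a : A) :
    AlgHom.mulLeftRight R A (TensorProduct.map (ι (R := R) he) LinearMap.id z) a
      = (Φ (R := R) he z (πP R e a)).1 := by
  induction z using TensorProduct.induction_on with
  | zero => simp only [map_zero, LinearMap.zero_apply, ZeroMemClass.coe_zero]
  | tmul x b =>
    rw [TensorProduct.map_tmul, AlgHom.mulLeftRight_apply, Φ_tmul_val]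
    show x.1 * a * b.unop = x.1 * ((e * a) * b.unop)
    simp only [mul_assoc, cr' he]
  | add z w hz hw => simp only [map_add, LinearMap.add_apply, hz, hw, Submodule.coe_add]

lemma K2' (w : A ⊗[R] Aᵐᵒᵖ) (m : eA R e) :
    (Φ (R := R) he (TensorProduct.map (π (R := R) he) LinearMap.id w) m).1
      = e * (AlgHom.mulLeftRight R A w m.1) := by
  induction w using TensorProduct.induction_on with
  | zero => simp only [map_zero, LinearMap.zero_apply, mul_zero, ZeroMemClass.coe_zero]
  | tmul a b =>
    rw [TensorProduct.map_tmul, Φ_tmul_val, AlgHom.mulLeftRight_apply]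
    show (e * a * e) * (m.1 * b.unop) = e * (a * m.1 * b.unop)
    simp only [mul_assoc, eA_left' he]
  | add w₁ w₂ h₁ h₂ =>
    simp only [map_add, LinearMap.add_apply, h₁, h₂, mul_add, Submodule.coe_add]

lemma qL_jL (z : he.Corner ⊗[R] Aᵐᵒᵖ) :
    TensorProduct.map (π (R := R) he) LinearMap.id
      (TensorProduct.map (ι (R := R) he) LinearMap.id z) = z := by
  induction z using TensorProduct.induction_on with
  | zero => simp only [map_zero]
  | tmul x y => rw [TensorProduct.map_tmul, TensorProduct.map_tmul, π_ι]; rfl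
  | add z w hz hw => rw [map_add, map_add, hz, hw]

theorem Φ_bij [IsAzumaya R A] : Function.Bijective (Φ (R := R) he) := by
  constructor
  · rw [injective_iff_map_eq_zero]
    intro z hz
    have h1 : AlgHom.mulLeftRight R A
        (TensorProduct.map (ι (R := R) he) LinearMap.id z) = 0 := by
      apply LinearMap.ext
      intro a
      rw [K1', hz]
      rfl
    have h2 : TensorProduct.map (ι (R := R) he) LinearMap.id z = 0 := by
      apply (IsAzumaya.bij (R := R) (A := A)).1
      rw [h1, map_zero]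
    rw [← qL_jL he z, h2, map_zero]
  · intro φ
    obtain ⟨w, hw⟩ := (IsAzumaya.bij (R := R) (A := A)).2
      ((eA R e).subtype ∘ₗ φ ∘ₗ (πP R e))
    refine ⟨TensorProduct.map (π (R := R) he) LinearMap.id w, ?_⟩
    apply LinearMap.ext
    intro m
    apply Subtype.ext
    rw [K2', hw]
    show e * (φ (πP R e m.1)).1 = (φ m).1
    rw [πP_self he, eA_left he]

/-- the Morita-type isomorphism -/
noncomputable def moritaEquiv [IsAzumaya R A] :
    A ⊗[R] Module.End R (eA R e) ≃ₐ[R] he.Corner ⊗[R] Module.End R A :=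
  ((Algebra.TensorProduct.congr (AlgEquiv.refl : A ≃ₐ[R] A)
      (AlgEquiv.ofBijective (Φ (R := R) he) (Φ_bij he)).symm).trans
    (Algebra.TensorProduct.leftComm R A he.Corner Aᵐᵒᵖ)).trans
    (Algebra.TensorProduct.congr (AlgEquiv.refl : he.Corner ≃ₐ[R] he.Corner)
      (AlgEquiv.ofBijective (AlgHom.mulLeftRight R A) IsAzumaya.bij))

include he in
lemma eA_faithful [FaithfulSMul R he.Corner] : FaithfulSMul R (eA R e) := by
  refine ⟨fun {r s} h => ?_⟩
  have hmem : e ∈ eA R e := ⟨e, he.eq⟩
  have h1 : r • e = s • e := congrArg Subtype.val (h ⟨e, hmem⟩)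
  apply FaithfulSMul.algebraMap_injective R he.Corner
  apply Subtype.ext
  exact h1

end Groth.Agent.Helper6.AzCorner
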