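import Mathlib
import Groth.Agent.Lib.Helper6.AzCorner.Morita

/-!
# Existence of a nonzero idempotent `e` of an Azumaya algebra over a connected base whose corner
`eAe` has only trivial idempotents
-/

set_option autoImplicit false
open scoped TensorProduct

namespace Groth.Agent.Helper6.AzCorner

universe u v

variable (R : Type u) [CommRing R] {A : Type v} [Ring A] [Algebra R A]

/-- `x ↦ a x a` -/
def cp (a : A) : Module.End R A := (LinearMap.mulLeft R a) ∘ₗ (LinearMap.mulRight R a)

lemma cp_apply (a x : A) : cp R a x = a * (x * a) := rfl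

lemma cp_mul_cp (a b c : A) (h1 : a * b = c) (h2 : b * a = c) : cp R a * cp R b = cp R c := by
  apply LinearMap.ext
  intro x
  rw [Module.End.mul_apply, cp_apply, cp_apply, cp_apply]
  calc a * (b * (x * b) * a) = (a * b) * (x * (b * a)) := by simp only [mul_assoc]
    _ = c * (x * c) := by rw [h1, h2]

variable {R}

theorem exists_minimal [ConnectedSpace (PrimeSpectrum R)] (A : Type v) [Ring A] [Algebra R A]
    [IsAzumaya R A] :
    ∃ (e : A) (he : IsIdempotentElem e), e ≠ 0 ∧
      ∀ b : he.Corner, IsIdempotentElem b → b = 0 ∨ b = 1 := by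
  classical
  obtain ⟨p₀⟩ : Nonempty (PrimeSpectrum R) := ConnectedSpace.toNonempty
  have h10R : (1 : R) ≠ 0 := fun h =>
    p₀.isPrime.ne_top ((Ideal.eq_top_iff_one _).mpr (by rw [h]; exact zero_mem _))
  have h10A : (1 : A) ≠ 0 := fun h => h10R (eq_of_smul_eq_smul (α := A) (fun a => by
    rw [one_smul, zero_smul, ← one_mul a, h, zero_mul]))
  have hP : ∃ n, ∃ a : A, IsIdempotentElem a ∧ a ≠ 0 ∧
      Module.rankAtStalk (LinearMap.range (cp R a)) p₀ = n :=
    ⟨_, 1, IsIdempotentElem.one, h10A, rfl⟩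
  obtain ⟨e, he, hne, hρ⟩ := Nat.find_spec hP
  refine ⟨e, he, hne, fun b hb => ?_⟩
  by_contra hcon
  rw [not_or] at hcon
  have hf : IsIdempotentElem b.1 := congrArg Subtype.val hb
  have hf0 : b.1 ≠ 0 := fun h => hcon.1 (Subtype.ext h)
  have hfe : b.1 ≠ e := fun h => hcon.2 (Subtype.ext h)
  have ef : e * b.1 = b.1 := cl he b
  have fe : b.1 * e = b.1 := cr he b
  have hmin : Nat.find hP ≤ Module.rankAtStalk (LinearMap.range (cp R b.1)) p₀ :=
    Nat.find_min' hP ⟨b.1, hf, hf0, rfl⟩
  have hEE := cp_mul_cp R e e e he.eq he.eq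
  have hFF := cp_mul_cp R b.1 b.1 b.1 hf.eq hf.eq
  have hEF := cp_mul_cp R e b.1 b.1 ef fe
  have hFE := cp_mul_cp R b.1 e b.1 fe ef
  have hq : (cp R e - cp R b.1) * (cp R e - cp R b.1) = cp R e - cp R b.1 := by
    rw [sub_mul, mul_sub, mul_sub, hEE, hFE, hEF, hFF, sub_self, sub_zero]
  have hFq : cp R b.1 * (cp R e - cp R b.1) = 0 := by rw [mul_sub, hFE, hFF, sub_self]
  have hqF : (cp R e - cp R b.1) * cp R b.1 = 0 := by rw [sub_mul, hEF, hFF, sub_self]
  have hsum : cp R b.1 + (cp R e - cp R b.1) = cp R e := add_sub_cancel _ _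
  have hrank := rank_range_add (cp R b.1) (cp R e - cp R b.1) (cp R e) hFF hq hFq hqF hsum p₀
  haveI : Module.Projective R (LinearMap.range (cp R e - cp R b.1)) := proj_range _ hq
  have hqe : (cp R e - cp R b.1) e = e - b.1 := by
    show e * (e * e) - b.1 * (e * b.1) = e - b.1
    rw [he.eq, he.eq, ef, hf.eq]
  haveI : Nontrivial (LinearMap.range (cp R e - cp R b.1)) :=
    ⟨⟨⟨(cp R e - cp R b.1) e, LinearMap.mem_range_self _ _⟩, 0, fun h => by
      have h1 : (cp R e - cp R b.1) e = 0 := congrArg Subtype.val h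
      rw [hqe] at h1
      exact hfe (sub_eq_zero.mp h1).symm⟩⟩
  have hpos := rank_pos (LinearMap.range (cp R e - cp R b.1)) p₀
  omega

end Groth.Agent.Helper6.AzCorner
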